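import Groth.Agent.QCoh.ClosedPush
import Groth.Agent.QCoh.Qcqs
import Groth.Agent.QCoh.Support
import Groth.Agent.QCoh.Devissage
import Groth.Agent.QCoh.Pullback
import Groth.Agent.InvX.GenLocus
import Mathlib.LinearAlgebra.Dual.Lemmas
import Mathlib.RingTheory.Nakayama

/-!
# Projective quasi-coherent modules with commutative endomorphisms are locally cyclic at closed points
-/

set_option autoImplicit false
set_option linter.style.haveILetI false
set_option backward.isDefEq.respectTransparency false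
set_option backward.isDefEq.respectTransparency.types false

universe u

open CategoryTheory CategoryTheory.Limits AlgebraicGeometry TopologicalSpace Opposite

namespace Groth.Agent.QCohAffine

variable {X : Scheme.{u}}

/-- A vector space with commuting endomorphisms is spanned by one vector. -/
theorem exists_span_eq_top {k W : Type*} [Field k] [AddCommGroup W] [Module k W]
    (h : ∀ a b : W →ₗ[k] W, a ∘ₗ b = b ∘ₗ a) : ∃ w : W, Submodule.span k {w} = ⊤ := by
  by_cases h0 : ∀ w : W, w = 0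
  · exact ⟨0, Submodule.eq_top_iff'.2 fun x => by rw [h0 x]; exact zero_mem _⟩
  push Not at h0
  obtain ⟨w, hw⟩ := h0
  refine ⟨w, by_contra fun hne => ?_⟩
  obtain ⟨v, -, hv⟩ := SetLike.exists_of_lt (lt_top_iff_ne_top.2 hne)
  obtain ⟨g, hgv, hg⟩ := (Submodule.span k {w}).exists_dual_map_eq_bot_of_notMem hv inferInstance
  have hgw : g w = 0 := by
    have h1 : g w ∈ (Submodule.span k {w}).map g :=
      Submodule.mem_map_of_mem (Submodule.mem_span_singleton_self w)
    rw [hg] at h1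
    exact (Submodule.mem_bot k).1 h1
  have hw' : w ∉ (⊥ : Submodule k W) := by simpa using hw
  obtain ⟨f, hf, -⟩ := (⊥ : Submodule k W).exists_dual_map_eq_bot_of_notMem hw' inferInstance
  have h1 := LinearMap.congr_fun (h (f.smulRight w) (g.smulRight w)) v
  simp [hgw, hf, hgv, hw] at h1

/-- The global section attached to the image of `1` determines a morphism from the structure sheaf. -/
noncomputable def homOf {L : X.Modules} (z : Γ(L, ⊤)) : Coh.structureModule X ⟶ L :=
  L.unitHomEquiv.symm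
    ⟨fun V => L.presheaf.map (homOfLE le_top).op z, fun {V V'} f => by
      show L.presheaf.map f (L.presheaf.map _ z) = L.presheaf.map _ z
      rw [← ConcreteCategory.comp_apply, ← L.presheaf.map_comp]
      rfl⟩

theorem one_homOf {L : X.Modules} (z : Γ(L, ⊤)) : InvX.one (homOf z) = z := by
  show (1 : Γ(X, ⊤)) • L.presheaf.map (𝟙 (op (⊤ : X.Opens))) z = z
  rw [one_smul, CategoryTheory.Functor.map_id]
  rfl

theorem hom_unit_ext {L : X.Modules} (a b : Coh.structureModule X ⟶ L) (h : InvX.one a = InvX.one b) :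
    a = b := by
  refine Scheme.Modules.hom_ext a b fun W => ?_
  refine ConcreteCategory.hom_ext _ _ fun r => ?_
  have ha := InvX.app_eq_smul a (show Γ(X, W) from r)
  have hb := InvX.app_eq_smul b (show Γ(X, W) from r)
  rw [h] at ha
  exact ha.trans hb.symm

theorem end_unit_comm (a b : Coh.structureModule X ⟶ Coh.structureModule X) : a ≫ b = b ≫ a := by
  refine hom_unit_ext _ _ ?_
  show b.app ⊤ (show Γ(X, ⊤) from a.app ⊤ (1 : Γ(X, ⊤))) = a.app ⊤ (show Γ(X, ⊤) from b.app ⊤ (1 : Γ(X, ⊤)))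
  refine (InvX.app_eq_smul b _).trans ?_
  refine Eq.trans ?_ (InvX.app_eq_smul a _).symm
  simp only [AModX.res_self]
  exact mul_comm (show Γ(X, ⊤) from a.app ⊤ (1 : Γ(X, ⊤))) (show Γ(X, ⊤) from b.app ⊤ (1 : Γ(X, ⊤)))

variable {F : X.Modules}

/-- Lifting of endomorphisms to a projective module. -/
def LiftsEpi (F : X.Modules) : Prop :=
  ∀ ⦃A B : X.Modules⦄ (p : A ⟶ B), Coh.IsQCoh A → Coh.IsQCoh B → Epi p → ∀ a : F ⟶ B, ∃ b : F ⟶ A, b ≫ p = a

theorem epi_unit_closed {Z : Scheme.{u}} (i : Z ⟶ X) [IsClosedImmersion i] (hF : Coh.IsQCoh F) :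
    Epi ((Scheme.Modules.pullbackPushforwardAdjunction i).unit.app F) := by
  let η := (Scheme.Modules.pullbackPushforwardAdjunction i).unit.app F
  have hP : Coh.IsQCoh ((Scheme.Modules.pushforward i).obj ((Scheme.Modules.pullback i).obj F)) :=
    QCoh.isQCoh_pushforward i (QCoh.isQCoh_pullback i hF)
  have hqc := QCoh.isQCoh_cokernel hF hP η
  refine Abelian.epi_of_cokernel_π_eq_zero η ((IsZero.eq_of_tgt ?_) _ _)
  refine QCoh.isZero_of_app_eq_zero hqc fun V x => ?_
  obtain ⟨y, rfl⟩ := QCoh.app_surjective_of_epi hP hqc (cokernel.π η) V.2 x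
  obtain ⟨w, rfl⟩ := (QCoh.unit_app_closed i hF V.2).1 y
  exact congr(($(cokernel.condition η)).app V.1 w)

theorem end_pullback_comm {Z : Scheme.{u}} (i : Z ⟶ X) [IsClosedImmersion i] (hF : Coh.IsQCoh F)
    (hproj : LiftsEpi F) (hcomm : ∀ a b : F ⟶ F, a ≫ b = b ≫ a)
    (a b : (Scheme.Modules.pullback i).obj F ⟶ (Scheme.Modules.pullback i).obj F) : a ≫ b = b ≫ a := by
  let adj := Scheme.Modules.pullbackPushforwardAdjunction i
  have key : ∀ a : (Scheme.Modules.pullback i).obj F ⟶ (Scheme.Modules.pullback i).obj F,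
      ∃ ψ : F ⟶ F, (Scheme.Modules.pullback i).map ψ = a := fun a => by
    obtain ⟨ψ, hψ⟩ := hproj (adj.unit.app F) hF (QCoh.isQCoh_pushforward i (QCoh.isQCoh_pullback i hF))
      (epi_unit_closed i hF) (adj.unit.app F ≫ (Scheme.Modules.pushforward i).map a)
    refine ⟨ψ, (adj.homEquiv _ _).injective ?_⟩
    rw [adj.homEquiv_unit, adj.homEquiv_unit, ← hψ]
    exact (adj.unit.naturality ψ).symm
  obtain ⟨ψ, rfl⟩ := key a
  obtain ⟨χ, rfl⟩ := key b
  rw [← Functor.map_comp, ← Functor.map_comp, hcomm]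

/-- Commuting endomorphisms on the spectrum of a field: the module is a quotient of the structure sheaf. -/
theorem exists_gen_spec {k : CommRingCat.{u}} (hk : IsField k) {G : (Spec k).Modules} (hG : Coh.IsQCoh G)
    (h : ∀ a b : G ⟶ G, a ≫ b = b ≫ a) :
    ∃ g : Γ(G, ⊤), ∀ y : Γ(G, ⊤), ∃ a : Γ(Spec k, ⊤), a • g = y := by
  letI := hk.toField
  obtain ⟨W, ⟨e⟩⟩ := QCoh.isQCoh_spec_iff.1 hG
  have hW : ∀ a b : (W : Type u) →ₗ[k] W, a ∘ₗ b = b ∘ₗ a := fun a b => by
    have h1 := h (e.inv ≫ (tilde.functor k).map (ModuleCat.ofHom b) ≫ e.hom)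
      (e.inv ≫ (tilde.functor k).map (ModuleCat.ofHom a) ≫ e.hom)
    simp only [Category.assoc, e.hom_inv_id_assoc, cancel_epi] at h1
    rw [← Category.assoc, ← Category.assoc _ _ e.hom, cancel_mono, ← Functor.map_comp, ← Functor.map_comp] at h1
    exact congrArg ModuleCat.Hom.hom ((tilde.functor k).map_injective h1)
  obtain ⟨w, hw⟩ := exists_span_eq_top hW
  let p : ModuleCat.of k k ⟶ W := ModuleCat.ofHom (LinearMap.toSpanSingleton k W w)
  haveI : Epi p := (ModuleCat.epi_iff_range_eq_top p).2 (by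
    show LinearMap.range (LinearMap.toSpanSingleton k W w) = ⊤
    rw [LinearMap.range_toSpanSingleton, hw])
  haveI : Epi ((tilde.functor k).map p) := inferInstance
  let φ : Coh.structureModule (Spec k) ⟶ G := (tilde.functor k).map p ≫ e.hom
  haveI : Epi φ := inferInstance
  refine ⟨InvX.one φ, fun y => ?_⟩
  obtain ⟨a, ha⟩ := QCoh.app_surjective_of_epi QCoh.isQCoh_structureModule hG φ (isAffineOpen_top _) y
  refine ⟨show Γ(Spec k, ⊤) from a, ?_⟩
  have h2 := InvX.app_eq_smul φ (show Γ(Spec k, ⊤) from a)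
  rw [ha, AModX.res_self] at h2
  exact h2.symm

/-- Near a closed point, a quasi-coherent module of finite type whose fibre endomorphisms commute is cyclic. -/
theorem exists_cyclic_nhd (hF : Coh.IsQCoh F) (hft : CohB1.IsFT F)
    (hproj : LiftsEpi F) (hcomm : ∀ a b : F ⟶ F, a ≫ b = b ≫ a) {x : X} (hx : IsClosed ({x} : Set X)) :
    ∃ W : X.Opens, x ∈ W ∧ IsAffineOpen W ∧ ∃ z : Γ(F, W), ∀ s : Γ(F, W), ∃ a : Γ(X, W), a • z = s := by
  let i := X.fromSpecResidueField x
  haveI : IsClosedImmersion i := isClosed_singleton_iff_isClosedImmersion.1 hx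
  obtain ⟨V, hV, hxV, -⟩ := exists_isAffineOpen_mem_and_subset (X := X) (x := x) (U := ⊤) trivial
  let G := (Scheme.Modules.pullback i).obj F
  obtain ⟨g, hg⟩ := exists_gen_spec (Field.toIsField (X.residueField x)) (G := G)
    (QCoh.isQCoh_pullback i hF) (end_pullback_comm i hF hproj hcomm)
  have htop : i ⁻¹ᵁ V = ⊤ := top_unique fun p _ => by
    show i p ∈ V
    rw [Scheme.fromSpecResidueField_apply]
    exact hxV
  obtain ⟨hsurj, hker⟩ := QCoh.unit_app_closed i hF hV
  let η : F ⟶ (Scheme.Modules.pushforward i).obj G := (Scheme.Modules.pullbackPushforwardAdjunction i).unit.app F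
  let g' : Γ(G, i ⁻¹ᵁ V) := G.presheaf.map (homOfLE le_top).op g
  obtain ⟨m, hm⟩ : ∃ m : Γ(F, V), η.app V m = g' := hsurj g'
  have hgen : ∀ y : Γ(G, i ⁻¹ᵁ V), ∃ a : Γ(Spec (X.residueField x), i ⁻¹ᵁ V), a • g' = y := by
    have aux : ∀ (O : (Spec (X.residueField x)).Opens), O = ⊤ → ∀ y : Γ(G, O), ∃ a : Γ(Spec (X.residueField x), O),
        a • G.presheaf.map (homOfLE (le_top : O ≤ ⊤)).op g = y := by
      rintro O rfl y
      obtain ⟨a, ha⟩ := hg y
      refine ⟨a, ?_⟩
      rw [show (homOfLE (le_top : (⊤ : (Spec (X.residueField x)).Opens) ≤ ⊤)).op = 𝟙 _ from rfl,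
        CategoryTheory.Functor.map_id]
      exact ha
    exact aux _ htop
  let I := i.ker.ideal ⟨V, hV⟩
  haveI : Module.Finite Γ(X, V) Γ(F, V) := QCoh.finite_of_isFT hF hft hV
  let S : Submodule Γ(X, V) Γ(F, V) := Submodule.span Γ(X, V) {m}
  have hle : (⊤ : Submodule Γ(X, V) (Γ(F, V) ⧸ S)) ≤ I • ⊤ := by
    rintro q -
    obtain ⟨s, rfl⟩ := Submodule.Quotient.mk_surjective S q
    obtain ⟨a, ha⟩ := hgen (η.app V s)
    obtain ⟨b, rfl⟩ := i.app_surjective V hV a
    have h1 : η.app V (s - b • m) = 0 := by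
      rw [map_sub, Scheme.Modules.Hom.app_smul, hm]
      exact sub_eq_zero.2 ha.symm
    have h2 := (hker _).1 h1
    have h3 : (Submodule.Quotient.mk (s - b • m) : Γ(F, V) ⧸ S) ∈ I • (⊤ : Submodule Γ(X, V) (Γ(F, V) ⧸ S)) := by
      have := Submodule.mem_map_of_mem (f := S.mkQ) h2
      rw [Submodule.map_smul''] at this
      exact Submodule.smul_mono le_rfl le_top this
    rw [Submodule.Quotient.mk_sub, (Submodule.Quotient.mk_eq_zero S).2
      (Submodule.smul_mem _ b (Submodule.mem_span_singleton_self m)), sub_zero] at h3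
    exact h3
  obtain ⟨r, hr1, hr2⟩ := Submodule.exists_sub_one_mem_and_smul_eq_zero_of_fg_of_le_smul I ⊤
    Module.Finite.fg_top hle
  have hr : i.app V r = 1 := by
    have h1 : r - 1 ∈ RingHom.ker (i.app V).hom := by
      rw [← Scheme.Hom.ker_apply (U := ⟨V, hV⟩)]
      exact hr1
    rw [RingHom.mem_ker, map_sub, map_one, sub_eq_zero] at h1
    exact h1
  have hxW : x ∈ X.basicOpen r := by
    have h1 : IsLocalRing.closedPoint (X.residueField x) ∈ i ⁻¹ᵁ X.basicOpen r := by
      rw [Scheme.preimage_basicOpen, hr, Scheme.basicOpen_of_isUnit _ isUnit_one, htop]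
      trivial
    have h2 : i (IsLocalRing.closedPoint (X.residueField x)) ∈ X.basicOpen r := h1
    rwa [Scheme.fromSpecResidueField_apply] at h2
  refine ⟨X.basicOpen r, hxW, hV.basicOpen r, F.presheaf.map (homOfLE (X.basicOpen_le r)).op m, fun s => ?_⟩
  let ρ := X.presheaf.map (homOfLE (X.basicOpen_le r)).op
  obtain ⟨n, t, ht⟩ := QCoh.exists_pow_smul_eq_map hF hV r s
  have h4 : r • t ∈ S := by
    rw [← Submodule.Quotient.mk_eq_zero, Submodule.Quotient.mk_smul]
    exact hr2 _ Submodule.mem_top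
  obtain ⟨b, hb⟩ := Submodule.mem_span_singleton.1 h4
  obtain ⟨u, hu⟩ : IsUnit (ρ r ^ (n + 1)) := (RingedSpace.isUnit_res_basicOpen X.toRingedSpace r).pow _
  refine ⟨(↑u⁻¹ : Γ(X, X.basicOpen r)) * ρ b, ?_⟩
  rw [mul_smul, ← Scheme.Modules.map_smul, hb, Scheme.Modules.map_smul, ht, ← mul_smul (ρ r), ← pow_succ',
    ← hu, ← mul_smul, Units.inv_mul, one_smul]

end Groth.Agent.QCohAffine
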