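import Groth.Agent.QCohAffine.Fibre
import Groth.Agent.QcqsColim.FTSub
import Groth.Agent.S10954
import Groth.Agent.S2297
import Groth.Agent.H23.PicInv
import Groth.Agent.Lib.CurveHiggs
import Groth.Prelude.Def_QCohCat
import Mathlib.CategoryTheory.Preadditive.Projective.Basic
import Mathlib.Algebra.Category.ModuleCat.Projective

/-!
# A qcqs scheme whose quasi-coherent modules form a module category is affine
-/

set_option autoImplicit false
set_option linter.style.haveILetI false
set_option backward.isDefEq.respectTransparency false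
set_option backward.isDefEq.respectTransparency.types false

universe u

open CategoryTheory CategoryTheory.Limits AlgebraicGeometry TopologicalSpace Opposite

namespace Groth.Agent.QCohAffine

variable {X : Scheme.{u}} {R : Type u} [CommRing R] (e : QCohCat.QCoh X ≌ ModuleCat.{u} R)

/-- The progenerator. -/
noncomputable def gen : QCohCat.QCoh X := e.inverse.obj (ModuleCat.of R R)

theorem gen_qcoh : Coh.IsQCoh (gen e).obj := (gen e).property

theorem end_gen_comm (a b : (gen e).obj ⟶ (gen e).obj) : a ≫ b = b ≫ a := by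
  obtain ⟨a', ha⟩ := e.inverse.map_surjective (ObjectProperty.homMk a : gen e ⟶ gen e)
  obtain ⟨b', hb⟩ := e.inverse.map_surjective (ObjectProperty.homMk b : gen e ⟶ gen e)
  have h : a' ≫ b' = b' ≫ a' := ModuleCat.hom_ext (LinearMap.ext_ring (by
    simp only [ModuleCat.hom_comp, LinearMap.comp_apply]
    rw [← mul_one (a'.hom (1 : R)), ← mul_one (b'.hom (1 : R)), ← smul_eq_mul, ← smul_eq_mul, map_smul, map_smul,
      smul_eq_mul, smul_eq_mul, mul_comm]))
  have h2 := congrArg (fun f => e.inverse.map f) h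
  simp only [Functor.map_comp, ha, hb] at h2
  exact congrArg (fun f => f.hom) h2

theorem epi_obj {A B : QCohCat.QCoh X} (p : A ⟶ B) (hp : Epi p.hom) : Epi p := by
  constructor
  intro Z g h hgh
  exact ObjectProperty.hom_ext _ ((cancel_epi p.hom).1 (congrArg (fun f => f.hom) hgh))

theorem mono_obj {A B : QCohCat.QCoh X} (p : A ⟶ B) (hp : Mono p.hom) : Mono p := by
  constructor
  intro Z g h hgh
  exact ObjectProperty.hom_ext _ ((cancel_mono p.hom).1 (congrArg (fun f => f.hom) hgh))

theorem liftsEpi_gen : LiftsEpi (gen e).obj := by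
  intro A B p hA hB hp a
  haveI : Module.Projective R (ModuleCat.of R R) := inferInstanceAs (Module.Projective R R)
  haveI : Projective (ModuleCat.of R R) := (IsProjective.iff_projective (ModuleCat.of R R)).1 inferInstance
  haveI : Projective (gen e) := (e.symm.map_projective_iff (ModuleCat.of R R)).2 inferInstance
  let A' : QCohCat.QCoh X := ⟨A, hA⟩
  let B' : QCohCat.QCoh X := ⟨B, hB⟩
  haveI := epi_obj (ObjectProperty.homMk p : A' ⟶ B') hp
  exact ⟨(Projective.factorThru (ObjectProperty.homMk a : gen e ⟶ B') (ObjectProperty.homMk p : A' ⟶ B')).hom,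
    congrArg (fun f => f.hom) (Projective.factorThru_comp (ObjectProperty.homMk a : gen e ⟶ B')
      (ObjectProperty.homMk p : A' ⟶ B'))⟩

theorem eq_of_gen {A B : X.Modules} (hA : Coh.IsQCoh A) (hB : Coh.IsQCoh B) (f g : A ⟶ B)
    (h : ∀ s : (gen e).obj ⟶ A, s ≫ f = s ≫ g) : f = g := by
  let A' : QCohCat.QCoh X := ⟨A, hA⟩
  let B' : QCohCat.QCoh X := ⟨B, hB⟩
  let adj := e.symm.toAdjunction
  have h1 : e.functor.map (ObjectProperty.homMk f : A' ⟶ B') = e.functor.map (ObjectProperty.homMk g : A' ⟶ B') := by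
    refine ModuleCat.hom_ext (LinearMap.ext fun m => ?_)
    obtain ⟨s, hs⟩ := (adj.homEquiv (ModuleCat.of R R) A').surjective
      (ModuleCat.ofHom (LinearMap.toSpanSingleton R (e.functor.obj A') m))
    have h2 : s ≫ (ObjectProperty.homMk f : A' ⟶ B') = s ≫ ObjectProperty.homMk g :=
      ObjectProperty.hom_ext _ (h s.hom)
    have h3 := congrArg (adj.homEquiv (ModuleCat.of R R) B') h2
    rw [adj.homEquiv_naturality_right, adj.homEquiv_naturality_right, hs] at h3
    have h4 : ((e.functor.map (ObjectProperty.homMk f : A' ⟶ B')).hom (LinearMap.toSpanSingleton R (e.functor.obj A') m (1 : R))) =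
        (e.functor.map (ObjectProperty.homMk g : A' ⟶ B')).hom (LinearMap.toSpanSingleton R (e.functor.obj A') m (1 : R)) :=
      congrArg (fun q : ModuleCat.of R R ⟶ e.functor.obj B' => q.hom (1 : R)) h3
    rwa [LinearMap.toSpanSingleton_apply, one_smul] at h4
  exact congrArg (fun f => f.hom) (e.functor.map_injective h1)

theorem isFT_gen [CompactSpace X] [QuasiSeparatedSpace X] : CohB1.IsFT (gen e).obj := by
  haveI : e.functor.PreservesZeroMorphisms := e.functor.preservesZeroMorphisms_of_full
  haveI : e.inverse.PreservesZeroMorphisms := e.inverse.preservesZeroMorphisms_of_full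
  let F := (gen e).obj
  have hF : Coh.IsQCoh F := gen_qcoh e
  let obN : QcqsColim.FTIndex F → QCohCat.QCoh X := fun N => ⟨N.1.toModules, QCoh.isQCoh_of_ftOn hF N.2⟩
  let ιN : ∀ N, obN N ⟶ gen e := fun N => ObjectProperty.homMk N.1.ι
  let uN : ∀ N, e.functor.obj (obN N) ⟶ ModuleCat.of R R := fun N =>
    e.functor.map (ιN N) ≫ e.counitIso.hom.app (ModuleCat.of R R)
  let S : Submodule R R := ⨆ N, LinearMap.range (uN N).hom
  let π : ModuleCat.of R R ⟶ ModuleCat.of R (R ⧸ S) := ModuleCat.ofHom S.mkQ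
  let q : gen e ⟶ e.inverse.obj (ModuleCat.of R (R ⧸ S)) := e.inverse.map π
  have hzero : ∀ N, ιN N ≫ q = 0 := fun N => by
    apply e.functor.map_injective
    refine Eq.trans ?_ (@Functor.map_zero _ _ _ _ _ _ e.functor ‹e.functor.PreservesZeroMorphisms› _ _).symm
    refine (Iso.cancel_iso_hom_right _ _ (e.counitIso.app (ModuleCat.of R (R ⧸ S)))).1 ?_
    rw [Functor.map_comp, zero_comp, Category.assoc, Iso.app_hom]
    have hnat := e.counitIso.hom.naturality π
    simp only [Functor.comp_map, Functor.id_map] at hnat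
    show e.functor.map (ιN N) ≫ e.functor.map (e.inverse.map π) ≫ _ = 0
    rw [hnat, ← Category.assoc]
    refine ModuleCat.hom_ext (LinearMap.ext fun y => ?_)
    exact (Submodule.Quotient.mk_eq_zero S).2 (le_iSup (fun N => LinearMap.range (uN N).hom) N ⟨y, rfl⟩)
  have hq : q = 0 := by
    refine ObjectProperty.hom_ext _ (Scheme.Modules.hom_ext _ _ fun O => ConcreteCategory.hom_ext _ _ fun s => ?_)
    refine (QCoh.eq_zero_of_locally O (q.hom.app O s) fun y hy => ?_).trans rfl
    obtain ⟨W, hW, hyW, hWO⟩ := exists_isAffineOpen_mem_and_subset (X := X) (x := y) hy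
    obtain ⟨N, hN, hmem⟩ := QCoh.exists_ftOn_contains hF hW (QCoh.extStep_qcqs hW.isCompact)
      {F.presheaf.map (homOfLE hWO).op s} (Set.finite_singleton _)
    obtain ⟨t, ht⟩ := N.exists_app_eq (hmem rfl)
    refine ⟨W, homOfLE hWO, hyW, ?_⟩
    have h1 : N.ι ≫ q.hom = 0 := congrArg (fun f => f.hom) (hzero ⟨N, hN⟩)
    have h2 : q.hom.app W (N.ι.app W t) = 0 := congr(($h1).app W t)
    rw [ht] at h2
    exact (QCoh.map_app_comm q.hom (homOfLE hWO) s).symm.trans h2
  have hS : S = ⊤ := by
    have hπ : π = 0 := e.inverse.map_injective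
      (hq.trans (@Functor.map_zero _ _ _ _ _ _ e.inverse ‹e.inverse.PreservesZeroMorphisms› _ _).symm)
    refine Submodule.eq_top_iff'.2 fun r => (Submodule.Quotient.mk_eq_zero S).1 ?_
    exact congrArg (fun f : ModuleCat.of R R ⟶ ModuleCat.of R (R ⧸ S) => f.hom r) hπ
  have hdir : Directed (· ≤ ·) fun N => LinearMap.range (uN N).hom := fun a b => by
    obtain ⟨c, hac, hbc⟩ := exists_ge_ge a b
    have aux : ∀ a : QcqsColim.FTIndex F, a ≤ c → LinearMap.range (uN a).hom ≤ LinearMap.range (uN c).hom := fun a h => by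
      have hfac : uN a = e.functor.map (ObjectProperty.homMk (QcqsColim.incl h) : obN a ⟶ obN c) ≫ uN c := by
        simp only [uN, ← Category.assoc, ← Functor.map_comp]
        congr 2
      rw [hfac]
      exact LinearMap.range_comp_le_range _ _
    exact ⟨c, aux a hac, aux b hbc⟩
  have h1 : (1 : R) ∈ S := hS ▸ Submodule.mem_top
  obtain ⟨N, y, hy⟩ := (Submodule.mem_iSup_of_directed _ hdir).1 h1
  haveI : Epi (uN N) := (ModuleCat.epi_iff_surjective _).2 fun r => ⟨r • y, by
    rw [map_smul, hy, smul_eq_mul, mul_one]⟩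
  haveI : Mono (ιN N) := mono_obj _ (inferInstanceAs (Mono N.1.ι))
  haveI : e.functor.PreservesMonomorphisms := Functor.preservesMonomorphisms_of_adjunction e.symm.toAdjunction
  haveI : Mono (e.functor.map (ιN N)) := Functor.map_mono e.functor (ιN N)
  haveI : Mono (e.counitIso.hom.app (ModuleCat.of R R)) :=
    IsIso.mono_of_iso (e.counitIso.app (ModuleCat.of R R)).hom
  haveI : Mono (uN N) := mono_comp (e.functor.map (ιN N)) (e.counitIso.hom.app (ModuleCat.of R R))
  haveI : IsIso (uN N) := isIso_of_mono_of_epi _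
  haveI : IsIso (e.functor.map (ιN N)) := IsIso.of_isIso_comp_right _ (e.counitIso.hom.app (ModuleCat.of R R))
  haveI : IsIso (ιN N) := isIso_of_reflects_iso _ e.functor
  haveI : IsIso N.1.ι := inferInstanceAs (IsIso ((QCohCat.isQCoh X).ι.map (ιN N)))
  refine QCoh.isFT_of_finite hF (fun V : X.affineOpens => V.1) (AlgebraicGeometry.iSup_affineOpens_eq_top X) (fun V => V.2)
    fun V => ?_
  haveI : Module.Finite Γ(X, V.1) Γ(N.1.toModules, V.1) :=
    QCoh.finite_of_isFT (QCoh.isQCoh_of_ftOn hF N.2) (QCoh.isFT_of_ftOn hF N.2) V.2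
  exact Module.Finite.of_surjective (QCoh.appLin N.1.ι V.1)
    (ConcreteCategory.bijective_of_isIso (N.1.ι.app V.1)).2

theorem isInvertible_gen [CompactSpace X] [QuasiSeparatedSpace X] : PicF.IsInvertible (gen e).obj := by
  let F := (gen e).obj
  have hF : Coh.IsQCoh F := gen_qcoh e
  intro y
  obtain ⟨x, hxy, hx⟩ := (isClosed_closure (s := ({y} : Set X))).exists_closed_singleton ⟨y, subset_closure rfl⟩
  obtain ⟨W, hxW, hW, z, hz⟩ := exists_cyclic_nhd hF (isFT_gen e) (liftsEpi_gen e) (end_gen_comm e) hx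
  have hyW : y ∈ W := (specializes_iff_mem_closure.2 hxy).mem_open W.2 hxW
  refine ⟨W, hyW, ?_⟩
  haveI : IsAffine W.toScheme := hW
  let j := W.ι
  have htop : j ''ᵁ ⊤ = W := W.ι_image_top
  let z' : Γ(F.restrict j, ⊤) := F.presheaf.map (eqToHom htop).op z
  let φ : Coh.structureModule W.toScheme ⟶ F.restrict j := homOf z'
  have hFW : Coh.IsQCoh (F.restrict j) := QCoh.isQCoh_restrict j hF
  haveI : Epi φ := by
    have hC := QCoh.isQCoh_cokernel QCoh.isQCoh_structureModule hFW φ
    refine Abelian.epi_of_cokernel_π_eq_zero φ ((IsZero.eq_of_tgt ?_) _ _)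
    refine QCoh.isZero_of_cover hC (fun _ : Unit => ⊤) (fun _ => isAffineOpen_top _) (fun w => ⟨(), trivial⟩)
      fun _ => subsingleton_of_forall_eq 0 fun c => ?_
    obtain ⟨s, rfl⟩ := QCoh.app_surjective_of_epi hFW hC (cokernel.π φ) (isAffineOpen_top _) c
    have key : ∀ (O : X.Opens) (hO : O = W) (s : Γ(F, O)),
        ∃ a : Γ(X, O), a • F.presheaf.map (eqToHom hO).op z = s := by
      rintro O rfl s
      obtain ⟨a, ha⟩ := hz s
      exact ⟨a, by rw [eqToHom_refl, op_id, CategoryTheory.Functor.map_id]; exact ha⟩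
    obtain ⟨a, ha⟩ := key _ htop s
    have h1 : φ.app ⊤ ((j.appIso ⊤).hom a) = s := by
      refine (InvX.app_eq_smul φ _).trans ?_
      rw [one_homOf, AModX.res_self]
      show ((j.appIso ⊤).inv ((j.appIso ⊤).hom a)) • (show Γ(F, j ''ᵁ ⊤) from z') = s
      rw [Iso.hom_inv_id_apply]
      exact ha
    rw [← h1]
    exact congr(($(cokernel.condition φ)).app ⊤ ((j.appIso ⊤).hom a))
  have hK := QCoh.isQCoh_kernel QCoh.isQCoh_structureModule hFW φ
  haveI : QuasiCompact j := inferInstance
  let adj := Scheme.Modules.restrictAdjunction j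
  let e0 : (Coh.structureModule X).restrict j ≅ Coh.structureModule W.toScheme := Scheme.Modules.restrictUnitIso j
  have hzero : ∀ k : Coh.structureModule W.toScheme ⟶ kernel φ, k = 0 := by
    intro k
    let t := k ≫ kernel.ι φ
    have htφ : t ≫ φ = 0 := by rw [Category.assoc, kernel.condition, comp_zero]
    let f : Coh.structureModule X ⟶ (Scheme.Modules.pushforward j).obj (Coh.structureModule W.toScheme) :=
      adj.homEquiv _ _ (e0.hom ≫ t)
    have hf : f = 0 := by
      refine eq_of_gen e QCoh.isQCoh_structureModule (QCoh.isQCoh_pushforward j QCoh.isQCoh_structureModule)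
        f 0 fun h => ?_
      rw [comp_zero, ← adj.homEquiv_naturality_left]
      have h' : (Scheme.Modules.restrictFunctor j).map h ≫ e0.hom ≫ t = 0 := by
        rw [← cancel_epi φ, comp_zero, ← Category.assoc, ← Category.assoc, Category.assoc φ _ e0.hom,
          end_unit_comm, ← Category.assoc, htφ, zero_comp]
      rw [h', adj.homEquiv_unit, Functor.map_zero, comp_zero]
    have h0 : e0.hom ≫ t = 0 := by
      apply (adj.homEquiv _ _).injective
      rw [adj.homEquiv_unit _ _ 0, Functor.map_zero, comp_zero]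
      exact hf
    have ht : t = 0 := by rwa [← cancel_epi e0.hom, comp_zero]
    rwa [← cancel_mono (kernel.ι φ), zero_comp]
  haveI : Mono φ := by
    refine Abelian.mono_of_kernel_ι_eq_zero φ ((IsZero.eq_of_src ?_) _ _)
    refine QCoh.isZero_of_cover hK (fun _ : Unit => ⊤) (fun _ => isAffineOpen_top _) (fun w => ⟨(), trivial⟩)
      fun _ => subsingleton_of_forall_eq 0 fun c => ?_
    have h2 := one_homOf c
    rw [hzero (homOf c)] at h2
    exact h2.symm
  haveI := isIso_of_mono_of_epi φ
  exact ⟨(asIso φ).symm⟩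

include e in
theorem isAffine_of_equivalence [CompactSpace X] [QuasiSeparatedSpace X] : IsAffine X := by
  obtain ⟨D, hD, ⟨ei⟩⟩ := H23.PicInv.exists_inverse (isInvertible_gen e)
  let T := CurveHiggs.twistEquiv (A := (gen e).obj) (B := D) ei
  haveI : T.functor.IsLeftAdjoint := T.toAdjunction.isLeftAdjoint
  refine Groth.Agent.S10954.result X fun S n j hS _ _ h2 h3 c => ?_
  haveI : Epi S.g := hS.epi_g
  have hT : ∀ M : X.Modules, Coh.IsQCoh M → Coh.IsQCoh (T.functor.obj M) := fun M hM => by
    haveI : Coh.IsQCoh (gen e).obj := gen_qcoh e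
    haveI := hM
    exact (Groth.Agent.S2297.result (gen e).obj M).1
  let s : Coh.structureModule X ⟶ S.X₃ := homOf c
  let u : T.functor.obj (Coh.structureModule X) ≅ (gen e).obj :=
    CurveTensor.commIso _ _ ≪≫ CurveTensor.structureTensorIso (gen e).obj
  obtain ⟨b, hb⟩ := liftsEpi_gen e (T.functor.map S.g) (hT _ h2) (hT _ h3) inferInstance
    (u.inv ≫ T.functor.map s)
  obtain ⟨b', hb'⟩ := T.functor.map_surjective (u.hom ≫ b)
  have h : b' ≫ S.g = s := by
    apply T.functor.map_injective
    rw [Functor.map_comp, hb', Category.assoc, hb, Iso.hom_inv_id_assoc]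
  refine ⟨InvX.one b', ?_⟩
  have h1 := congrArg InvX.one h
  rw [one_homOf] at h1
  exact h1

end Groth.Agent.QCohAffine
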